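import Groth.Agent.Lib.GITQuot.Cat
import Mathlib.AlgebraicGeometry.Morphisms.Separated
import Mathlib.AlgebraicGeometry.Morphisms.Immersion
import Mathlib.AlgebraicGeometry.Morphisms.UnderlyingMap
import Mathlib.AlgebraicGeometry.PullbackCarrier
import Mathlib.CategoryTheory.Monoidal.Cartesian.Over

/-!
# The orbit maps of a geometric quotient
-/

universe u

open CategoryTheory MonoidalCategory CartesianMonoidalCategory AlgebraicGeometry TopologicalSpace

namespace GrothLib.GITQuot

/-- Points of a fibre product along a cartesian square. -/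
theorem exists_preimage_isPullback {P X Y Z : Scheme.{u}} {p : P ⟶ X} {q : P ⟶ Y} {f : X ⟶ Z}
    {g : Y ⟶ Z} (h : IsPullback p q f g) (x : X) (y : Y) (e : f x = g y) :
    ∃ z : P, p z = x ∧ q z = y := by
  obtain ⟨w, h1, h2⟩ := Scheme.Pullback.exists_preimage_pullback (f := f) (g := g) x y e
  refine ⟨h.isoPullback.inv w, ?_, ?_⟩
  · rw [← Scheme.Hom.comp_apply, h.isoPullback_inv_fst, h1]
  · rw [← Scheme.Hom.comp_apply, h.isoPullback_inv_snd, h2]

theorem range_eq_preimage {P X Y Z : Scheme.{u}} {p : P ⟶ X} {q : P ⟶ Y} {f : X ⟶ Z} {g : Y ⟶ Z}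
    (h : IsPullback p q f g) : Set.range p.base = f.base ⁻¹' Set.range g.base := by
  refine Set.Subset.antisymm ?_ ?_
  · rintro _ ⟨z, rfl⟩
    exact ⟨q z, by rw [← Scheme.Hom.comp_apply, ← Scheme.Hom.comp_apply, h.w]⟩
  · rintro x ⟨y, hy⟩
    obtain ⟨z, hz, -⟩ := exists_preimage_isPullback h x y hy.symm
    exact ⟨z, hz⟩

variable {S : Scheme.{u}}

theorem isPullback_tensor (A B : Over S) :
    IsPullback (fst A B).left (snd A B).left A.hom B.hom :=
  IsPullback.of_hasPullback _ _

/-- Whiskering is a base change. -/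
theorem isPullback_whiskerRight {A B : Over S} (g : A ⟶ B) (C : Over S) :
    IsPullback (fst A C).left (g ▷ C).left g.left (fst B C).left := by
  refine IsPullback.of_bot ?_ ?_ (isPullback_tensor B C)
  · rw [← Over.comp_left, whiskerRight_snd, Over.w g]
    exact isPullback_tensor A C
  · rw [← Over.comp_left, ← Over.comp_left, whiskerRight_fst]

theorem isPullback_whiskerLeft (C : Over S) {A B : Over S} (g : A ⟶ B) :
    IsPullback (snd C A).left (C ◁ g).left g.left (snd C B).left := by
  refine IsPullback.of_bot ?_ ?_ (isPullback_tensor C B).flip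
  · rw [← Over.comp_left, whiskerLeft_fst, Over.w g]
    exact (isPullback_tensor C A).flip
  · rw [← Over.comp_left, ← Over.comp_left, whiskerLeft_snd]

variable {G X Y : Over S} [GrpObj G] {a : AlgGrp.Action G X} {φ : X ⟶ Y}

/-- The orbit of a point with values in any scheme is the preimage of its image in the quotient. -/
theorem range_psi (h : GIT.IsGeomQuot a φ) {T : Over S} (f : T ⟶ X) :
    Set.range (GIT.psi a f).left.base =
      (φ ▷ T).left.base ⁻¹' Set.range (lift (f ≫ φ) (𝟙 T)).left.base := by
  refine Set.Subset.antisymm ?_ ?_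
  · rintro _ ⟨w, rfl⟩
    refine ⟨(snd G T).left w, ?_⟩
    have e : snd G T ≫ lift (f ≫ φ) (𝟙 T) = GIT.psi a f ≫ (φ ▷ T) := by
      apply CartesianMonoidalCategory.hom_ext
      · rw [Category.assoc, Category.assoc, lift_fst, whiskerRight_fst, GIT.psi, lift_fst_assoc,
          Category.assoc, h.inv, whiskerLeft_snd_assoc]
      · rw [Category.assoc, Category.assoc, lift_snd, Category.comp_id, whiskerRight_snd, GIT.psi, lift_snd]
    exact congrArg (fun g : G ⊗ T ⟶ Y ⊗ T => g.left.base w) e
  -- the fibre product `X ×_Y T` inside `X ×_S T`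
  let t : T ⟶ Y := f ≫ φ
  let P : Over S := Over.mk (Limits.pullback.snd φ.left t.left ≫ T.hom)
  let p₁ : P ⟶ X := Over.homMk (Limits.pullback.fst φ.left t.left) (by
    show _ = Limits.pullback.snd φ.left t.left ≫ T.hom
    rw [← Over.w φ, Limits.pullback.condition_assoc, Over.w t])
  let p₂ : P ⟶ T := Over.homMk (Limits.pullback.snd φ.left t.left) rfl
  have hcond : p₁ ≫ φ = p₂ ≫ t := Over.OverMorphism.ext Limits.pullback.condition
  have hP : IsPullback (lift p₁ p₂).left p₂.left (φ ▷ T).left (lift t (𝟙 T)).left := by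
    refine IsPullback.of_right ?_ ?_ (isPullback_whiskerRight φ T).flip.flip
    · rw [← Over.comp_left, ← Over.comp_left, lift_fst, lift_fst]
      exact IsPullback.of_hasPullback φ.left t.left
    · rw [← Over.comp_left, ← Over.comp_left]
      congr 1
      apply CartesianMonoidalCategory.hom_ext
      · rw [Category.assoc, Category.assoc, whiskerRight_fst, lift_fst_assoc, lift_fst, hcond]
      · rw [Category.assoc, Category.assoc, whiskerRight_snd, lift_snd, lift_snd, Category.comp_id]
  -- the orbit morphism onto the fibre product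
  let o : (G ⊗ T).left ⟶ Limits.pullback φ.left t.left :=
    Limits.pullback.lift ((G ◁ f) ≫ a.act).left (snd G T).left (by
      rw [← Over.comp_left, ← Over.comp_left, Category.assoc, h.inv, whiskerLeft_snd_assoc])
  have ho : Function.Surjective o.base := by
    intro w
    let m : Limits.pullback φ.left t.left ⟶ Limits.pullback φ.left φ.left :=
      Limits.pullback.lift (Limits.pullback.fst φ.left t.left) (Limits.pullback.snd φ.left t.left ≫ f.left)
        (Limits.pullback.condition.trans (by simp [t]))
    obtain ⟨z, hz⟩ := h.orbit (m w)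
    have hbot : IsPullback m (Limits.pullback.snd φ.left t.left) (Limits.pullback.snd φ.left φ.left) f.left := by
      refine IsPullback.of_right ?_ ?_ (IsPullback.of_hasPullback φ.left φ.left)
      · rw [Limits.pullback.lift_fst, ← Over.comp_left]
        exact IsPullback.of_hasPullback φ.left t.left
      · exact Limits.pullback.lift_snd _ _ _
    have htop : IsPullback (G ◁ f).left o (GIT.PsiY a φ h.inv) m := by
      refine IsPullback.of_bot ?_ ?_ hbot
      · rw [Limits.pullback.lift_snd]
        change IsPullback _ (snd G T).left (Limits.pullback.lift a.act.left (snd G X).left h.inv.left ≫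
          Limits.pullback.snd φ.left φ.left) f.left
        rw [Limits.pullback.lift_snd]
        exact (isPullback_whiskerLeft G f).flip
      · refine Limits.pullback.hom_ext ?_ ?_
        · simp only [m, o, GIT.PsiY, Category.assoc, Limits.pullback.lift_fst, Over.comp_left]
        · simp only [m, o, GIT.PsiY, Category.assoc, Limits.pullback.lift_snd, Limits.pullback.lift_snd_assoc,
            Limits.pullback.lift_fst]
          rw [← Over.comp_left, ← Over.comp_left, whiskerLeft_snd]
    obtain ⟨v, -, hv⟩ := exists_preimage_isPullback htop z w hz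
    exact ⟨v, hv⟩
  rw [← range_eq_preimage hP]
  rintro _ ⟨w, rfl⟩
  obtain ⟨v, rfl⟩ := ho w
  refine ⟨v, ?_⟩
  have e : (GIT.psi a f).left = o ≫ (lift p₁ p₂).left := by
    refine Over.tensorObj_ext _ _ ?_ ?_
    · rw [Category.assoc]
      change (GIT.psi a f).left ≫ (fst X T).left = o ≫ (lift p₁ p₂).left ≫ (fst X T).left
      rw [← Over.comp_left, ← Over.comp_left, GIT.psi, lift_fst, lift_fst]
      exact (Limits.pullback.lift_fst _ _ _).symm
    · rw [Category.assoc]
      change (GIT.psi a f).left ≫ (snd X T).left = o ≫ (lift p₁ p₂).left ≫ (snd X T).left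
      rw [← Over.comp_left, ← Over.comp_left, GIT.psi, lift_snd, lift_snd]
      exact (Limits.pullback.lift_snd _ _ _).symm
  exact congrArg (fun g => g.base v) e

/-- A rational point of a scheme over an algebraically closed field, or over any field, is closed. -/
theorem isClosed_range_section {P : Scheme.{u}} {Ω : Type u} [Field Ω] {T : Scheme.{u}}
    (e : T ≅ Spec (CommRingCat.of Ω)) (π : P ⟶ T) (σ : T ⟶ P) (hσ : σ ≫ π = 𝟙 T) :
    IsClosed (Set.range σ.base) := by
  haveI : IsAffine T := IsAffine.of_isIso e.hom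
  haveI : Unique T := (e.hom.homeomorph.toEquiv).unique
  rw [(show IsOpenCover (fun V : P.affineOpens => (V.1 : P.Opens)) from
    iSup_affineOpens_eq_top P).isClosed_iff_coe_preimage]
  intro V
  by_cases hV : σ (default : T) ∈ V.1
  · have htop : (⊤ : T.Opens) ≤ σ ⁻¹ᵁ V.1 := fun x _ => by
      rw [Unique.eq_default x]; exact hV
    let g : (⊤ : T.Opens).toScheme ⟶ V.1.toScheme := σ.resLE V.1 ⊤ htop
    have hg : g ≫ (V.1.ι ≫ π) = (⊤ : T.Opens).ι := by
      rw [← Category.assoc, Scheme.Hom.resLE_comp_ι, Category.assoc, hσ, Category.comp_id]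
    haveI : IsAffine V.1.toScheme := V.2
    haveI : IsAffine (⊤ : T.Opens).toScheme := isAffineOpen_top T
    haveI : IsIso (g ≫ (V.1.ι ≫ π)) := by rw [hg, ← Scheme.topIso_hom]; infer_instance
    haveI : IsIso (g ≫ (V.1.ι ≫ π)).appTop := inferInstanceAs (IsIso (Scheme.Γ.map (g ≫ (V.1.ι ≫ π)).op))
    have hsurj : Function.Surjective g.appTop := by
      intro s
      obtain ⟨r, hr⟩ := (ConcreteCategory.bijective_of_isIso (g ≫ (V.1.ι ≫ π)).appTop).2 s
      exact ⟨(V.1.ι ≫ π).appTop r, hr⟩
    have hcl := (IsClosedImmersion.of_surjective_of_isAffine g hsurj).base_closed.isClosed_range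
    have heq : (Subtype.val ⁻¹' Set.range σ.base : Set (V.1 : P.Opens)) = Set.range g.base := by
      refine Set.ext fun x => ?_
      constructor
      · rintro ⟨y, hy⟩
        exact ⟨⟨y, trivial⟩, Subtype.ext ((Scheme.Hom.coe_resLE_apply ..).trans hy)⟩
      · rintro ⟨y, rfl⟩
        exact ⟨y.1, (Scheme.Hom.coe_resLE_apply ..).symm⟩
    exact heq ▸ hcl
  · convert isClosed_empty
    refine Set.eq_empty_of_forall_notMem fun x ⟨y, hy⟩ => hV ?_
    rw [← Unique.eq_default y]
    exact hy ▸ x.2

theorem isClosedAction (h : GIT.IsGeomQuot a φ) : GIT.IsClosedAction a := by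
  intro Ω _ _ T e f
  rw [range_psi h f]
  refine (isClosed_range_section e (snd Y T).left (lift (f ≫ φ) (𝟙 T)).left ?_).preimage
    (φ ▷ T).left.continuous
  rw [← Over.comp_left, lift_snd, Over.id_left]

theorem isQuotientMap_map (h : GIT.IsGeomQuot a φ) :
    Topology.IsQuotientMap ((φ ▷ X) ≫ (Y ◁ φ)).left.base := by
  have h1 : Topology.IsQuotientMap (φ ▷ X).left.base :=
    h.subm _ _ _ (isPullback_whiskerRight φ X).flip
  have h2 : Topology.IsQuotientMap (Y ◁ φ).left.base :=
    h.subm _ _ _ (isPullback_whiskerLeft Y φ).flip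
  exact h2.comp h1

theorem isSeparated_iff (h : GIT.IsGeomQuot a φ) :
    IsSeparated Y.hom ↔ IsClosed (Set.range (GIT.psi a (𝟙 X)).left.base) := by
  have hsq : IsPullback (lift φ (𝟙 X)).left φ.left (Y ◁ φ).left (lift (𝟙 Y) (𝟙 Y)).left := by
    refine IsPullback.of_right ?_ ?_ (isPullback_whiskerLeft Y φ).flip.flip
    · rw [← Over.comp_left, ← Over.comp_left, lift_snd, lift_snd, Over.id_left, Over.id_left]
      exact IsPullback.of_horiz_isIso ⟨by simp⟩
    · rw [← Over.comp_left, ← Over.comp_left]
      congr 1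
      apply CartesianMonoidalCategory.hom_ext <;> simp
  rw [range_psi h (𝟙 X), Category.id_comp, range_eq_preimage hsq, ← Set.preimage_comp]
  have hc : ((Y ◁ φ).left.base : _ → _) ∘ (φ ▷ X).left.base = ((φ ▷ X) ≫ (Y ◁ φ)).left.base := rfl
  rw [hc, (isQuotientMap_map h).isClosed_preimage]
  have hd : (lift (𝟙 Y) (𝟙 Y)).left = Limits.pullback.diagonal Y.hom := rfl
  rw [hd]
  constructor
  · intro hs
    exact (Limits.pullback.diagonal Y.hom).isClosedEmbedding.isClosed_range
  · intro hc
    exact ⟨IsClosedImmersion.of_isPreimmersion _ hc⟩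

end GrothLib.GITQuot
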