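import Groth.Prelude.Def_W4bk4git07Quot
import Mathlib.AlgebraicGeometry.AffineScheme
import Mathlib.AlgebraicGeometry.Gluing

/-!
# Categorical quotients from invariant functions and closed invariant subsets
-/

universe u

open CategoryTheory MonoidalCategory CartesianMonoidalCategory AlgebraicGeometry TopologicalSpace

namespace GrothLib.GITQuot

/-- A surjective morphism which is injective on sections is right cancellable. -/
theorem cancel_of_surjective {P X Z : Scheme.{u}} (f : X ⟶ P) (hs : Function.Surjective f.base)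
    (hi : ∀ U : P.Opens, Function.Injective (f.app U)) {a b : P ⟶ Z} (h : f ≫ a = f ≫ b) : a = b := by
  have hbase : a.base = b.base := by
    ext p
    obtain ⟨x, rfl⟩ := hs p
    exact congrArg (fun g : X ⟶ Z => g.base x) h
  refine Scheme.Hom.ext hbase fun U => ?_
  refine CommRingCat.hom_ext (RingHom.ext fun s => hi (b ⁻¹ᵁ U) ?_)
  have e : a ⁻¹ᵁ U = b ⁻¹ᵁ U := congr((Opens.map $hbase).obj U)
  have h1 := ConcreteCategory.congr_hom (f.naturality (eqToHom e.symm).op) (a.app U s)
  have h2 := ConcreteCategory.congr_hom (Scheme.Hom.congr_app h U) s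
  refine h1.trans ?_
  refine (congrArg _ h2).trans ?_
  change (X.presheaf.map _ ≫ X.presheaf.map _) (f.app (b ⁻¹ᵁ U) (b.app U s)) = f.app (b ⁻¹ᵁ U) (b.app U s)
  rw [← Functor.map_comp, Subsingleton.elim (_ ≫ _) (𝟙 _), CategoryTheory.Functor.map_id]
  rfl

/-- Restrictions of a morphism which is injective on sections. -/
theorem restrict_app_injective {X Y : Scheme.{u}} (f : X ⟶ Y)
    (hi : ∀ U : Y.Opens, Function.Injective (f.app U)) (U : Y.Opens) (V : U.toScheme.Opens) :
    Function.Injective ((f ∣_ U).app V) := by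
  rw [morphismRestrict_app]
  change Function.Injective (_ ∘ _)
  exact (ConcreteCategory.bijective_of_isIso
    (X.presheaf.map (eqToHom (image_morphismRestrict_preimage f U V)).op)).1.comp (hi _)

theorem restrict_surjective {X Y : Scheme.{u}} (f : X ⟶ Y) (hs : Function.Surjective f.base)
    (U : Y.Opens) : Function.Surjective (f ∣_ U).base := by
  rw [morphismRestrict_base]
  exact Set.restrictPreimage_surjective _ hs

theorem restrict_comp_homOfLE {X Y : Scheme.{u}} (f : X ⟶ Y) {U V : Y.Opens} (e : U ≤ V) :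
    f ∣_ U ≫ Y.homOfLE e = X.homOfLE (fun _ hx => e hx : f ⁻¹ᵁ U ≤ f ⁻¹ᵁ V) ≫ f ∣_ V := by
  rw [← cancel_mono V.ι, Category.assoc, Category.assoc, Scheme.homOfLE_ι, morphismRestrict_ι,
    morphismRestrict_ι, Scheme.homOfLE_ι_assoc]

variable {S : Scheme.{u}} {G X Y : Over S} [GrpObj G] {a : AlgGrp.Action G X} {φ : X ⟶ Y}

/-- The invariant subsets used below. -/
theorem invariant_preimage (hi : GIT.IsInvariant a φ) (s : Set Y.left) :
    a.act.left.base '' ((snd G X).left.base ⁻¹' (φ.left.base ⁻¹' s)) ⊆ φ.left.base ⁻¹' s := by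
  rintro _ ⟨z, hz, rfl⟩
  have h := congrArg (fun g : (G ⊗ X).left ⟶ Y.left => g.base z) hi.left
  change φ.left.base (a.act.left.base z) = φ.left.base ((snd G X).left.base z) at h
  rw [Set.mem_preimage, h]
  exact hz

theorem surjective_of_iInter
    (hiii' : ∀ (J : Type u) (W : J → Set X.left),
      (∀ i, IsClosed (W i) ∧ a.act.left.base '' ((snd G X).left.base ⁻¹' W i) ⊆ W i) →
      φ.left.base '' (⋂ i, W i) = ⋂ i, φ.left.base '' W i) :
    Function.Surjective φ.left.base := by
  intro y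
  have h := hiii' PEmpty PEmpty.elim (fun i => i.elim)
  rw [Set.iInter_of_empty, Set.iInter_of_empty] at h
  obtain ⟨x, -, hx⟩ := h.ge (Set.mem_univ y)
  exact ⟨x, hx⟩

theorem isQuotientMap (hi : GIT.IsInvariant a φ)
    (hs : Function.Surjective φ.left.base)
    (hiii : ∀ W : Set X.left, IsClosed W → a.act.left.base '' ((snd G X).left.base ⁻¹' W) ⊆ W →
      IsClosed (φ.left.base '' W)) :
    Topology.IsQuotientMap φ.left.base := by
  rw [Topology.isQuotientMap_iff_isClosed]
  refine ⟨hs, fun s => ⟨fun h => h.preimage φ.left.continuous, fun h => ?_⟩⟩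
  have := hiii _ h (invariant_preimage hi s)
  rwa [Set.image_preimage_eq s hs] at this

/-- The local lift of an invariant morphism. -/
theorem exists_lift
    (hii : ∀ U : Y.left.Opens,
      Function.Injective (φ.left.app U) ∧ Set.range (φ.left.app U) = {f | GIT.IsInvSection a φ U f})
    {Z : Over S} (ψ : X ⟶ Z) (hψ : GIT.IsInvariant a ψ) {V : Z.left.Opens} (hV : IsAffineOpen V)
    {U : Y.left.Opens} (hU : φ.left ⁻¹ᵁ U ≤ ψ.left ⁻¹ᵁ V) :
    ∃ χ : (U : Scheme.{u}) ⟶ Z.left, φ.left ∣_ U ≫ χ = (φ.left ⁻¹ᵁ U).ι ≫ ψ.left := by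
  have hmem : ∀ s, (ψ.left.appLE V (φ.left ⁻¹ᵁ U) hU) s ∈ Set.range (φ.left.app U) := by
    intro s
    rw [(hii U).2]
    change GIT.IsInvSection a φ U _
    rw [GIT.IsInvSection, ← CommRingCat.comp_apply, ← CommRingCat.comp_apply,
      Scheme.Hom.appLE_comp_appLE, Scheme.Hom.appLE_comp_appLE]
    simp only [hψ.left]
  choose g hg using hmem
  let h : Γ(Z.left, V) ⟶ Γ(Y.left, U) := CommRingCat.ofHom
    { toFun := g
      map_one' := (hii U).1 (by rw [hg, map_one, map_one])
      map_mul' := fun x y => (hii U).1 (by rw [hg, map_mul, map_mul, hg, hg])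
      map_zero' := (hii U).1 (by rw [hg, map_zero, map_zero])
      map_add' := fun x y => (hii U).1 (by rw [hg, map_add, map_add, hg, hg]) }
  have hh : h ≫ φ.left.app U = ψ.left.appLE V (φ.left ⁻¹ᵁ U) hU := CommRingCat.hom_ext (RingHom.ext hg)
  refine ⟨U.toSpecΓ ≫ Spec.map h ≫ hV.fromSpec, ?_⟩
  rw [← Scheme.Opens.toSpecΓ_naturality_assoc, ← Spec.map_comp_assoc, hh,
    Scheme.Opens.toSpecΓ_SpecMap_appLE_assoc, hV.toSpecΓ_fromSpec, Scheme.Hom.resLE_comp_ι]

/-- Invariant functions and images of closed invariant sets give a categorical quotient. -/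
theorem isCatQuot (hi : GIT.IsInvariant a φ)
    (hii : ∀ U : Y.left.Opens,
      Function.Injective (φ.left.app U) ∧ Set.range (φ.left.app U) = {f | GIT.IsInvSection a φ U f})
    (hiii : ∀ W : Set X.left, IsClosed W → a.act.left.base '' ((snd G X).left.base ⁻¹' W) ⊆ W →
      IsClosed (φ.left.base '' W))
    (hiii' : ∀ (J : Type u) (W : J → Set X.left),
      (∀ i, IsClosed (W i) ∧ a.act.left.base '' ((snd G X).left.base ⁻¹' W i) ⊆ W i) →
      φ.left.base '' (⋂ i, W i) = ⋂ i, φ.left.base '' W i) :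
    GIT.IsCatQuot a φ := by
  refine ⟨hi, fun Z ψ hψ => ?_⟩
  have hs : Function.Surjective φ.left.base := surjective_of_iInter hiii'
  have hinj : ∀ U, Function.Injective (φ.left.app U) := fun U => (hii U).1
  let W : Z.left.affineOpens → Set X.left := fun V => (ψ.left.base ⁻¹' (V.1 : Set Z.left))ᶜ
  have hW : ∀ V, IsClosed (W V) ∧ a.act.left.base '' ((snd G X).left.base ⁻¹' W V) ⊆ W V := fun V =>
    ⟨(V.1.2.preimage ψ.left.continuous).isClosed_compl,
      invariant_preimage hψ (V.1 : Set Z.left)ᶜ⟩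
  let U : Z.left.affineOpens → Y.left.Opens := fun V =>
    ⟨(φ.left.base '' W V)ᶜ, (hiii _ (hW V).1 (hW V).2).isOpen_compl⟩
  have hUV : ∀ V, φ.left ⁻¹ᵁ U V ≤ ψ.left ⁻¹ᵁ V.1 := fun V x hx =>
    by_contra fun h => hx ⟨x, h, rfl⟩
  have hcover : IsOpenCover U := by
    refine top_le_iff.1 fun y _ => ?_
    by_contra hy
    simp only [Opens.mem_iSup, not_exists] at hy
    have hmem : y ∈ φ.left.base '' ⋂ V, W V := by
      rw [hiii' _ W hW, Set.mem_iInter]
      exact fun V => by_contra fun h => hy V h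
    obtain ⟨x, hx, -⟩ := hmem
    have htop : ψ.left.base x ∈ (⊤ : Z.left.Opens) := trivial
    rw [← iSup_affineOpens_eq_top, Opens.mem_iSup] at htop
    obtain ⟨V, hV⟩ := htop
    exact Set.mem_iInter.1 hx V hV
  choose χ hχ using fun V => exists_lift hii ψ hψ V.2 (hUV V)
  let 𝒰 := Y.left.openCoverOfIsOpenCover U hcover
  have hagree : ∀ i j, Y.left.homOfLE (inf_le_left : U i ⊓ U j ≤ U i) ≫ χ i =
      Y.left.homOfLE (inf_le_right : U i ⊓ U j ≤ U j) ≫ χ j := by
    intro i j
    refine cancel_of_surjective (φ.left ∣_ (U i ⊓ U j)) (restrict_surjective _ hs _)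
      (restrict_app_injective _ hinj _) ?_
    rw [← Category.assoc, ← Category.assoc, restrict_comp_homOfLE, restrict_comp_homOfLE,
      Category.assoc, Category.assoc, hχ, hχ, Scheme.homOfLE_ι_assoc, Scheme.homOfLE_ι_assoc]
  have hglue : ∀ i j, Limits.pullback.fst (U i).ι (U j).ι ≫ χ i = Limits.pullback.snd (U i).ι (U j).ι ≫ χ j :=
    fun i j => by
      rw [← cancel_epi (isPullback_opens_inf (U i) (U j)).isoPullback.hom,
        IsPullback.isoPullback_hom_fst_assoc, IsPullback.isoPullback_hom_snd_assoc]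
      exact hagree i j
  let χ₀ : Y.left ⟶ Z.left := Scheme.Cover.glueMorphisms 𝒰 χ hglue
  have hχ₀ : ∀ i, (U i).ι ≫ χ₀ = χ i := fun i => Scheme.Cover.ι_glueMorphisms 𝒰 χ _ i
  have hfac : φ.left ≫ χ₀ = ψ.left := by
    refine Scheme.Cover.hom_ext (X.left.openCoverOfIsOpenCover (fun i => φ.left ⁻¹ᵁ U i)
      (hcover.comap ⟨φ.left.base, φ.left.continuous⟩)) _ _ fun i => ?_
    change (φ.left ⁻¹ᵁ U i).ι ≫ φ.left ≫ χ₀ = (φ.left ⁻¹ᵁ U i).ι ≫ ψ.left
    rw [← morphismRestrict_ι_assoc, hχ₀, hχ]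
  have hover : χ₀ ≫ Z.hom = Y.hom := by
    refine cancel_of_surjective φ.left hs hinj ?_
    rw [reassoc_of% hfac, Over.w ψ, Over.w φ]
  refine ⟨Over.homMk χ₀ hover, Over.OverMorphism.ext hfac, fun χ' hχ' => ?_⟩
  refine Over.OverMorphism.ext (cancel_of_surjective φ.left hs hinj ?_)
  rw [← Over.comp_left, hχ', hfac.symm]
  rfl

/-- The hypotheses above hold for a geometric quotient. -/
theorem preimage_image_eq (h : GIT.IsGeomQuot a φ) {W : Set X.left}
    (hW : a.act.left.base '' ((snd G X).left.base ⁻¹' W) ⊆ W) :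
    φ.left.base ⁻¹' (φ.left.base '' W) = W := by
  refine Set.Subset.antisymm ?_ (Set.subset_preimage_image _ _)
  rintro x ⟨w, hw, hwx⟩
  obtain ⟨q, hq1, hq2⟩ := Scheme.Pullback.exists_preimage_pullback (f := φ.left) (g := φ.left) x w hwx.symm
  obtain ⟨z, rfl⟩ := h.orbit q
  refine hW ⟨z, ?_, ?_⟩
  · rw [Set.mem_preimage]
    have : (snd G X).left.base z = w := by
      rw [← hq2, ← Scheme.Hom.comp_apply, GIT.PsiY, Limits.pullback.lift_snd]
    exact this ▸ hw
  · rw [← hq1, ← Scheme.Hom.comp_apply, GIT.PsiY, Limits.pullback.lift_fst]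

theorem isCatQuot_of_isGeomQuot (h : GIT.IsGeomQuot a φ) : GIT.IsCatQuot a φ := by
  refine isCatQuot h.inv h.sections (fun W hWc hW => ?_) (fun J W hW => ?_)
  · have hq : Topology.IsQuotientMap φ.left.base :=
      MorphismProperty.universally_le _ _ h.subm
    rw [← hq.isClosed_preimage, preimage_image_eq h hW]
    exact hWc
  · refine Set.Subset.antisymm (Set.image_iInter_subset _ _) fun y hy => ?_
    obtain ⟨x, rfl⟩ := h.surj y
    refine ⟨x, Set.mem_iInter.2 fun i => ?_, rfl⟩
    rw [← preimage_image_eq h (hW i).2]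
    exact Set.mem_iInter.1 hy i

end GrothLib.GITQuot
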